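import Groth.Agent.Lib.PairIso.Algebra
import Groth.Agent.Lib.ModM1.PullSpec
import Groth.Agent.Lib.ModM1.Affine
import Groth.Agent.Lib.IdealMul.Extend
import Groth.Agent.Lib.KCoh4.Loc
import Groth.Agent.Lib.CohMop.ExtSupport
import Groth.Agent.Lib.CohFound.ProjQuot
import Groth.Agent.Lib.CurveCoh17.Bases
import Mathlib.Algebra.Category.ModuleCat.EpiMono
import Mathlib.RingTheory.OrzechProperty

/-!
# Finite locally free modules over an open of an affine scheme
-/

set_option autoImplicit false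
set_option linter.style.haveILetI false
set_option backward.isDefEq.respectTransparency false
set_option backward.isDefEq.respectTransparency.types false

universe u

open CategoryTheory CategoryTheory.Limits AlgebraicGeometry TopologicalSpace Opposite

namespace Groth.Agent.PairIso

open Groth.Agent Groth.Agent.CohFound

variable {R : CommRingCat.{u}}

/-- The support of `tilde M`. -/
theorem mem_support_tilde {M : ModuleCat.{u} R} (x : Spec R) :
    x ∈ CohB1.support (tilde M) ↔ (x : PrimeSpectrum R) ∈ Module.support R M := by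
  let p : PrimeSpectrum R := x
  have e := IsLocalizedModule.iso p.asIdeal.primeCompl (tilde.toStalk M p).hom
  rw [Module.mem_support_iff, ← not_subsingleton_iff_nontrivial]
  exact not_congr ⟨fun h => @Equiv.subsingleton _ _ e.toEquiv h, fun h => @Equiv.subsingleton _ _ e.toEquiv.symm h⟩

/-- Epimorphisms after restriction. -/
theorem epi_restrict_iff {M N : ModuleCat.{u} R} (g : M ⟶ N) (U : (Spec R).Opens) :
    Epi ((Scheme.Modules.restrictFunctor U.ι).map (tilde.map g)) ↔
      ∀ p ∈ U, (p : PrimeSpectrum R) ∉ Module.support R (N ⧸ LinearMap.range g.hom) := by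
  let T := tilde.functor R ⋙ Scheme.Modules.restrictFunctor U.ι
  have hepi : Epi ((Scheme.Modules.restrictFunctor U.ι).map (tilde.map g)) ↔ IsZero (T.obj (cokernel g)) := by
    constructor
    · intro h
      haveI : Epi (T.map g) := h
      exact IsZero.of_iso (isZero_cokernel_of_epi (T.map g)) (PreservesCokernel.iso T g)
    · intro h
      exact Preadditive.epi_of_isZero_cokernel _ (IsZero.of_iso h (PreservesCokernel.iso T g).symm)
  have hsupp : ∀ p : Spec R, p ∈ CohB1.support (tilde (cokernel g)) ↔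
      (p : PrimeSpectrum R) ∈ Module.support R (N ⧸ LinearMap.range g.hom) := fun p => by
    rw [mem_support_tilde, LinearEquiv.support_eq (ModuleCat.cokernelIsoRangeQuotient g).toLinearEquiv]
  rw [hepi]
  constructor
  · intro h p hp hps
    have h1 : (⟨p, hp⟩ : (U : Scheme.{u})) ∈ CohB1.support ((Scheme.Modules.restrictFunctor U.ι).obj (tilde (cokernel g))) :=
      (M1.subsingleton_stalk_restrict_iff U.ι _ ⟨p, hp⟩).2 ((hsupp p).2 hps)
    refine h1 ?_
    exact AddCommGrpCat.subsingleton_of_isZero ((M1.stalkAb _).map_isZero h)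
  · intro h
    exact CohMop.isZero_restrict_of_support U fun p hp hps => h p hp ((hsupp p).1 hps)

theorem mono_restrict_of_injective {M N : ModuleCat.{u} R} (g : M ⟶ N) (hg : Function.Injective g.hom)
    (U : (Spec R).Opens) [(tilde.functor R).PreservesMonomorphisms] :
    Mono ((Scheme.Modules.restrictFunctor U.ι).map (tilde.map g)) := by
  haveI : Mono g := (ModuleCat.mono_iff_injective g).2 hg
  haveI : Mono ((tilde.functor R).map g) := inferInstance
  exact (inferInstance : Mono ((Scheme.Modules.restrictFunctor U.ι).map ((tilde.functor R).map g)))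

/-- An epimorphism between locally free modules of the same finite rank is an isomorphism. -/
theorem isIso_of_epi_rank {X : Scheme.{u}} {E₁ E₂ : X.Modules} {n : ℕ} (h₁ : FlatMod.IsFinLocFreeOfRank n E₁)
    (h₂ : FlatMod.IsFinLocFreeOfRank n E₂) (ψ : E₁ ⟶ E₂) [Epi ψ] : IsIso ψ := by
  refine (M1.isIso_iff_stalk ψ).2 fun x => ⟨?_, (M1.epi_iff_stalk ψ).1 inferInstance x⟩
  obtain ⟨e₁⟩ := CurveCoh17.nonempty_stalk_equiv h₁ x
  obtain ⟨e₂⟩ := CurveCoh17.nonempty_stalk_equiv h₂ x
  let L := e₂.toLinearMap ∘ₗ stL ψ x ∘ₗ e₁.symm.toLinearMap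
  have hs : Function.Surjective L := e₂.surjective.comp ((stL_surjective_of_epi ψ x).comp e₁.symm.surjective)
  have hi := OrzechProperty.injective_of_surjective_endomorphism L hs
  intro a b hab
  refine e₁.injective (hi ?_)
  show e₂ (stL ψ x (e₁.symm (e₁ a))) = e₂ (stL ψ x (e₁.symm (e₁ b)))
  rw [e₁.symm_apply_apply, e₁.symm_apply_apply]
  exact congrArg e₂ hab

/-- A coherent module on an open of a Noetherian affine scheme comes from a finite module. -/
theorem exists_tilde_ext [IsNoetherianRing R] (U : (Spec R).Opens) (E : (U : Scheme.{u}).Modules) (hE : Coh.IsCoh E) :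
    ∃ M : ModuleCat.{u} R, Module.Finite R M ∧
      Nonempty ((Scheme.Modules.restrictFunctor U.ι).obj (tilde M) ≅ E) := by
  haveI : IsNoetherian (Spec R) := {}
  haveI : QuasiCompact U.ι := M1.quasiCompact_ι U fun V _ => TopologicalSpace.NoetherianSpace.isCompact _
  obtain ⟨F, α, hF, hα⟩ := KCoh4.exists_ext U.ι hE
  haveI : IsIso ((Scheme.Modules.restrictFunctor U.ι).map α) := hα
  haveI := hF.1
  haveI : IsIso F.fromTildeΓ := inferInstance
  exact ⟨moduleSpecΓFunctor.obj F, M1.finite_sections_spec F hF.1 hF.2,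
    ⟨(Scheme.Modules.restrictFunctor U.ι).mapIso (asIso F.fromTildeΓ) ≪≫
      asIso ((Scheme.Modules.restrictFunctor U.ι).map α) ≪≫
      asIso ((Scheme.Modules.restrictAdjunction U.ι).counit.app E)⟩⟩

variable {S : CommRingCat.{u}} (φ : R ⟶ S)

/-- Base change commutes with restriction to an open. -/
noncomputable def restrictBCIso (U : (Spec R).Opens) :
    Scheme.Modules.restrictFunctor U.ι ⋙ Scheme.Modules.pullback (Spec.map φ ∣_ U) ≅
      Scheme.Modules.pullback (Spec.map φ) ⋙ Scheme.Modules.restrictFunctor (Spec.map φ ⁻¹ᵁ U).ι :=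
  Functor.isoWhiskerRight (Scheme.Modules.restrictFunctorIsoPullback U.ι) _ ≪≫
    Scheme.Modules.pullbackComp _ _ ≪≫ Scheme.Modules.pullbackCongr (morphismRestrict_ι _ U) ≪≫
    (Scheme.Modules.pullbackComp _ _).symm ≪≫
    Functor.isoWhiskerLeft _ (Scheme.Modules.restrictFunctorIsoPullback (Spec.map φ ⁻¹ᵁ U).ι).symm

/-- Base change of a tilde, restricted. -/
noncomputable def tildeBCIso (U : (Spec R).Opens) (M : ModuleCat.{u} R) :
    (Scheme.Modules.pullback (Spec.map φ ∣_ U)).obj ((Scheme.Modules.restrictFunctor U.ι).obj (tilde M)) ≅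
      (Scheme.Modules.restrictFunctor (Spec.map φ ⁻¹ᵁ U).ι).obj (tilde ((ModuleCat.extendScalars φ.hom).obj M)) :=
  (restrictBCIso φ U).app (tilde M) ≪≫
    (Scheme.Modules.restrictFunctor (Spec.map φ ⁻¹ᵁ U).ι).mapIso (M1.tildePullbackObjIso φ M)

open TensorProduct in
/-- Supports of cokernels of base changes. -/
theorem mem_support_coker_baseChange_iff {A A' : Type u} [CommRing A] [CommRing A'] [Algebra A A']
    {X Y : Type u} [AddCommGroup X] [Module A X] [AddCommGroup Y] [Module A Y] [Module.Finite A Y]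
    (χ : X →ₗ[A] Y) (q : PrimeSpectrum A') :
    q ∈ Module.support A' ((A' ⊗[A] Y) ⧸ LinearMap.range (χ.baseChange A')) ↔
      PrimeSpectrum.comap (algebraMap A A') q ∈ Module.support A (Y ⧸ LinearMap.range χ) := by
  have hex := (LinearMap.exact_iff.2 (Submodule.ker_mkQ (LinearMap.range χ)) :
    Function.Exact χ (LinearMap.range χ).mkQ)
  have hsurj : Function.Surjective ((LinearMap.range χ).mkQ.baseChange A') :=
    LinearMap.lTensor_surjective A' (Submodule.mkQ_surjective _)
  have hex' : Function.Exact (χ.baseChange A') ((LinearMap.range χ).mkQ.baseChange A') :=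
    lTensor_exact A' hex (Submodule.mkQ_surjective _)
  rw [LinearEquiv.support_eq ((Submodule.quotEquivOfEq _ _ hex'.linearMap_ker_eq.symm) ≪≫ₗ
    LinearMap.quotKerEquivOfSurjective _ hsurj)]
  exact Groth.Agent.FlatPur25.mem_support_baseChange_iff q

/-- Maps from a submodule of an ideal power extend a morphism on the open. -/
theorem exists_extend_tilde {A : CommRingCat.{u}} [IsNoetherianRing A] (V : (Spec A).Opens) (I : Ideal A)
    (hV : (V : Set (Spec A)) = (PrimeSpectrum.zeroLocus (I : Set A))ᶜ) {G F : ModuleCat.{u} A}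
    [Module.Finite A G]
    (φ' : (Scheme.Modules.restrictFunctor V.ι).obj (tilde G) ⟶ (Scheme.Modules.restrictFunctor V.ι).obj (tilde F)) :
    ∃ k : ℕ, ∀ {P : ModuleCat.{u} A} (b : P ⟶ G), (∀ y, b y ∈ I ^ k • (⊤ : Submodule A G)) →
      ∃ f : P ⟶ F, (Scheme.Modules.restrictFunctor V.ι).map (tilde.map f) =
        (Scheme.Modules.restrictFunctor V.ι).map (tilde.map b) ≫ φ' := by
  haveI : IsNoetherian (Spec A) := {}
  let IS : (Spec A).IdealSheafData :=
    Scheme.IdealSheafData.ofIdealTop (I.map (Scheme.ΓSpecIso A).inv.hom)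
  have hsupp : (V : Set (Spec A)) = (IS.support : Set (Spec A))ᶜ := by
    rw [hV, Scheme.IdealSheafData.coe_support_ofIdealTop, Ideal.map, Scheme.zeroLocus_span]
    exact congrArg compl (Spec_zeroLocus_eq_zeroLocus (R := A) (I : Set A)).symm
  have hG : Coh.IsCoh (tilde G) := ⟨inferInstance, M1.isFT_tilde G⟩
  obtain ⟨k, ψ, hψ⟩ := IdealMulL.exists_extend (U := V) (G := tilde G) (F := tilde F) inferInstance hG IS hsupp φ'
  refine ⟨k, fun {P} b hb => ?_⟩
  obtain ⟨c, hc⟩ := IdealMulL.exists_lift_affine (tilde.map b) (IdealMulL.idl (tilde G) (IS ^ k))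
    (fun _ : Unit => (⟨⊤, isAffineOpen_top (Spec A)⟩ : (Spec A).affineOpens)) (fun x => ⟨(), trivial⟩) fun _ m => by
    rw [IdealMulL.mem_idl, IdealMulL.ideal_pow_apply]
    have htop : IS.ideal ⟨⊤, isAffineOpen_top (Spec A)⟩ = I.map (Scheme.ΓSpecIso A).inv.hom := by
      simp [IS]
    rw [htop, ← Ideal.map_pow]
    obtain ⟨y, rfl⟩ : ∃ y : P, (tilde.toOpen P ⊤).hom y = m :=
      (ConcreteCategory.bijective_of_isIso (tilde.toOpen P ⊤)).2 m
    have hnat : (tilde.map b).app ⊤ ((tilde.toOpen P ⊤).hom y) = (tilde.toOpen G ⊤).hom (b y) :=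
      ConcreteCategory.congr_hom (tilde.toOpen_map_app b ⊤) y
    rw [hnat]
    refine Submodule.smul_induction_on (hb y) (fun r hr g _ => ?_) fun g g' h h' => ?_
    · rw [map_smul]
      exact Submodule.smul_mem_smul (Ideal.mem_map_of_mem (Scheme.ΓSpecIso A).inv.hom hr) Submodule.mem_top
    · rw [map_add]; exact Submodule.add_mem _ h h'
  obtain ⟨f, hf⟩ := (tilde.functor A).map_surjective (X := P) (Y := F) (c ≫ ψ)
  refine ⟨f, ?_⟩
  show (Scheme.Modules.restrictFunctor V.ι).map ((tilde.functor A).map f) = _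
  rw [hf, Functor.map_comp, hψ, ← Category.assoc, ← Functor.map_comp]
  exact congrArg (fun χ => (Scheme.Modules.restrictFunctor V.ι).map χ ≫ φ') hc

open TensorProduct in
set_option maxHeartbeats 400000 in
/-- The isomorphism theorem. -/
theorem nonempty_iso {A A' : Type u} [CommRing A] [CommRing A'] [IsNoetherianRing A] [IsNoetherianRing A']
    (φ : A →+* A') (J : Ideal A) (hJ : J ≤ (⊥ : Ideal A).jacobson) (hJ' : J.map φ ≤ (⊥ : Ideal A').jacobson)
    (hq : ∀ n : ℕ, Function.Bijective (Ideal.quotientMap (Ideal.map φ (J ^ n)) φ Ideal.le_comap_map))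
    (U : (Spec (CommRingCat.of A)).Opens)
    (hU : ∀ p : PrimeSpectrum A, ¬ J ≤ p.asIdeal → p ∈ U)
    (n : ℕ) (E₁ E₂ : (U : Scheme.{u}).Modules)
    (h₁ : FlatMod.IsFinLocFreeOfRank n E₁) (h₂ : FlatMod.IsFinLocFreeOfRank n E₂)
    (hiso : Nonempty ((Scheme.Modules.pullback ((Spec.map (CommRingCat.ofHom φ)) ∣_ U)).obj E₁ ≅
      (Scheme.Modules.pullback ((Spec.map (CommRingCat.ofHom φ)) ∣_ U)).obj E₂)) :
    Nonempty (E₁ ≅ E₂) := by
  letI : Algebra A A' := φ.toAlgebra
  haveI hff : Module.FaithfullyFlat A A' := faithfullyFlat_of_pair J hJ hJ' hq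
  have hqs : ∀ k : ℕ, Function.Surjective
      (fun a : A => Ideal.Quotient.mk ((J ^ k).map (algebraMap A A')) (algebraMap A A' a)) := fun k x => by
    obtain ⟨y, rfl⟩ := (hq k).2 x
    obtain ⟨a, rfl⟩ := Ideal.Quotient.mk_surjective y
    exact ⟨a, rfl⟩
  have hlf : ∀ {E : (U : Scheme.{u}).Modules}, FlatMod.IsFinLocFreeOfRank n E → FlatMod.IsFinLocFree E :=
    fun h x => by obtain ⟨W, hW, e⟩ := h x; exact ⟨W, n, hW, e⟩
  obtain ⟨M₁, hM₁, ⟨e₁⟩⟩ := exists_tilde_ext (R := CommRingCat.of A) U E₁ (isCoh_of_isFinLocFree (hlf h₁))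
  obtain ⟨M₂, hM₂, ⟨e₂⟩⟩ := exists_tilde_ext (R := CommRingCat.of A) U E₂ (isCoh_of_isFinLocFree (hlf h₂))
  obtain ⟨i⟩ := hiso
  let g : CommRingCat.of A ⟶ CommRingCat.of A' := CommRingCat.ofHom φ
  let V := Spec.map g ⁻¹ᵁ U
  let gU := Spec.map g ∣_ U
  let G : ModuleCat.{u} (CommRingCat.of A') := ModuleCat.of A' (A' ⊗[A] M₁)
  let F : ModuleCat.{u} (CommRingCat.of A') := ModuleCat.of A' (A' ⊗[A] M₂)
  let φ' : (Scheme.Modules.restrictFunctor V.ι).obj (tilde G) ≅ (Scheme.Modules.restrictFunctor V.ι).obj (tilde F) :=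
    (tildeBCIso g U M₁).symm ≪≫ (Scheme.Modules.pullback gU).mapIso e₁ ≪≫ i ≪≫
      (Scheme.Modules.pullback gU).mapIso e₂.symm ≪≫ tildeBCIso g U M₂
  let Us : Set (PrimeSpectrum A) := (U : Set (Spec (CommRingCat.of A)))
  let I : Ideal A := PrimeSpectrum.vanishingIdeal Usᶜ
  have hI : PrimeSpectrum.zeroLocus (I : Set A) = Usᶜ := by
    rw [PrimeSpectrum.zeroLocus_vanishingIdeal_eq_closure]
    exact U.2.isClosed_compl.closure_eq
  have hV : (V : Set (Spec (CommRingCat.of A'))) = (PrimeSpectrum.zeroLocus ((I.map φ : Ideal A') : Set A'))ᶜ := by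
    rw [Ideal.map, PrimeSpectrum.zeroLocus_span, ← PrimeSpectrum.preimage_comap_zeroLocus, hI, ← Set.preimage_compl,
      compl_compl]
    rfl
  haveI : Module.Finite (CommRingCat.of A') G := inferInstanceAs (Module.Finite A' (A' ⊗[A] M₁))
  obtain ⟨k, hk⟩ := exists_extend_tilde (A := CommRingCat.of A') V (I.map φ) hV φ'.hom
  let N : Submodule A M₁ := I ^ k • (⊤ : Submodule A M₁)
  let P₀ : ModuleCat.{u} (CommRingCat.of A) := ModuleCat.of A N
  let P : ModuleCat.{u} (CommRingCat.of A') := ModuleCat.of A' (A' ⊗[A] N)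
  let incl : P₀ ⟶ M₁ := ModuleCat.ofHom N.subtype
  let b : P ⟶ G := ModuleCat.ofHom (N.subtype.baseChange A')
  have hb : ∀ y, b y ∈ (I.map φ) ^ k • (⊤ : Submodule A' (A' ⊗[A] M₁)) := by
    intro y
    induction y using TensorProduct.induction_on with
    | zero => rw [map_zero]; exact zero_mem _
    | add p q hp hq => rw [map_add]; exact Submodule.add_mem _ hp hq
    | tmul a m =>
      show a ⊗ₜ[A] (m : M₁) ∈ _
      obtain ⟨m, hm⟩ := m
      show a ⊗ₜ[A] m ∈ _
      refine Submodule.smul_induction_on hm (fun r hr z _ => ?_) fun z z' h h' => ?_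
      · rw [tmul_smul, ← Ideal.map_pow, ← IsScalarTower.algebraMap_smul A' r (a ⊗ₜ[A] z)]
        exact Submodule.smul_mem_smul (Ideal.mem_map_of_mem φ hr) Submodule.mem_top
      · rw [tmul_add]; exact Submodule.add_mem _ h h'
  obtain ⟨f, hf⟩ := hk b hb
  -- `b` is an epimorphism on the open
  have hN : ∀ p ∈ U, (p : PrimeSpectrum A) ∉ Module.support A (M₁ ⧸ LinearMap.range N.subtype) := by
    intro p hp h
    have hle := Module.annihilator_le_of_mem_support h
    have hI' : I ^ k ≤ p.asIdeal := fun r hr => hle (Module.mem_annihilator.2 fun q => by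
      obtain ⟨q, rfl⟩ := Submodule.Quotient.mk_surjective _ q
      rw [← Submodule.Quotient.mk_smul, Submodule.Quotient.mk_eq_zero, Submodule.range_subtype]
      exact Submodule.smul_mem_smul hr Submodule.mem_top)
    have hIp : I ≤ p.asIdeal := p.2.le_of_pow_le hI'
    have : (p : PrimeSpectrum A) ∈ PrimeSpectrum.zeroLocus (I : Set A) := hIp
    rw [hI] at this
    exact this hp
  have hpt : ∀ q : PrimeSpectrum A', (Spec.map g) q = PrimeSpectrum.comap φ q := fun q => rfl
  have hmemV : ∀ q : PrimeSpectrum A', q ∈ V → PrimeSpectrum.comap φ q ∈ U := fun q hq => hpt q ▸ hq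
  have hbepi : Epi ((Scheme.Modules.restrictFunctor V.ι).map (tilde.map b)) := by
    refine (epi_restrict_iff (R := CommRingCat.of A') b V).2 fun q hq h => ?_
    have h' : (q : PrimeSpectrum A') ∈ Module.support A' ((A' ⊗[A] M₁) ⧸ LinearMap.range (N.subtype.baseChange A')) := h
    have h'' := (mem_support_coker_baseChange_iff N.subtype q).1 h'
    rw [RingHom.algebraMap_toAlgebra] at h''
    exact hN (PrimeSpectrum.comap φ q) (hmemV q hq) h''
  have hfepi : Epi ((Scheme.Modules.restrictFunctor V.ι).map (tilde.map f)) := by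
    rw [hf]
    haveI := hbepi
    infer_instance
  have hfs := (epi_restrict_iff (R := CommRingCat.of A') f V).1 hfepi
  haveI : Module.Finite A N := Module.Finite.of_fg (IsNoetherian.noetherian _)
  haveI : Module.FinitePresentation A N := Module.finitePresentation_of_finite A N
  haveI : Module.Finite A M₂ := hM₂
  obtain ⟨h, hh⟩ := exists_approx (A := A) (A' := A') (N := N) (M := M₂) J hqs hJ' f.hom fun q hq => by
    by_contra hq'
    refine hfs q (hU _ fun hle => hq' ?_) hq
    exact Ideal.map_le_iff_le_comap.2 hle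
  -- `h` is an epimorphism on `U`
  let hc : P₀ ⟶ M₂ := ModuleCat.ofHom h
  have hhepi : Epi ((Scheme.Modules.restrictFunctor U.ι).map (tilde.map hc)) := by
    refine (epi_restrict_iff (R := CommRingCat.of A) hc U).2 fun p hp hps => ?_
    obtain ⟨q, rfl⟩ := PrimeSpectrum.comap_surjective_of_faithfullyFlat (A := A) (B := A') p
    have h1 := (mem_support_coker_baseChange_iff h q).2 hps
    refine hfs q hp ?_
    have h2 : Module.support A' ((A' ⊗[A] M₂) ⧸ LinearMap.range (h.baseChange A')) ⊆
        Module.support A' ((A' ⊗[A] M₂) ⧸ LinearMap.range f.hom) :=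
      Module.support_subset_of_surjective (Submodule.factor hh) (Submodule.factor_surjective hh)
    exact h2 h1
  -- conclude
  haveI : (tilde.functor (CommRingCat.of A)).PreservesMonomorphisms := ⟨fun {X Y} χ _ => Groth.Agent.M1.tilde_map_mono χ⟩
  haveI : Mono ((Scheme.Modules.restrictFunctor U.ι).map (tilde.map incl)) :=
    mono_restrict_of_injective incl N.injective_subtype U
  haveI : Epi ((Scheme.Modules.restrictFunctor U.ι).map (tilde.map incl)) := (epi_restrict_iff (R := CommRingCat.of A) incl U).2 hN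
  haveI : IsIso ((Scheme.Modules.restrictFunctor U.ι).map (tilde.map incl)) := isIso_of_mono_of_epi _
  let ψ : E₁ ⟶ E₂ := e₁.inv ≫ inv ((Scheme.Modules.restrictFunctor U.ι).map (tilde.map incl)) ≫
    (Scheme.Modules.restrictFunctor U.ι).map (tilde.map hc) ≫ e₂.hom
  haveI := hhepi
  haveI : Epi ψ := inferInstance
  haveI := isIso_of_epi_rank h₁ h₂ ψ
  exact ⟨asIso ψ⟩

end Groth.Agent.PairIso
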