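import Groth.Agent.Lib.FlatH4.LocCrit
import Groth.Agent.Lib.FlatPur25.Algebra
import Mathlib.RingTheory.Flat.FaithfullyFlat.Algebra
import Mathlib.RingTheory.Finiteness.Ideal
import Mathlib.Algebra.Module.FinitePresentation
import Mathlib.RingTheory.Jacobson.Ideal
import Mathlib.RingTheory.Nakayama

/-!
# Approximating linear maps over a ring with the same truncations
-/

set_option autoImplicit false
set_option linter.style.haveILetI false

universe u

namespace Groth.Agent.PairIso

open TensorProduct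

variable {A A' : Type u} [CommRing A] [CommRing A'] [Algebra A A']
variable {N M : Type u} [AddCommGroup N] [Module A N] [AddCommGroup M] [Module A M]

/-- The comparison map for homomorphisms. -/
noncomputable def homComp (N M : Type u) [AddCommGroup N] [Module A N] [AddCommGroup M] [Module A M] :
    A' ⊗[A] (N →ₗ[A] M) →ₗ[A'] (A' ⊗[A] N →ₗ[A'] A' ⊗[A] M) :=
  LinearMap.liftBaseChange A' (LinearMap.baseChangeHom A A' N M)

theorem homComp_tmul (a : A') (g : N →ₗ[A] M) : homComp (A := A) (A' := A') N M (a ⊗ₜ g) = a • g.baseChange A' := by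
  simp [homComp, LinearMap.baseChangeHom]

theorem homComp_comp {P : Type u} [AddCommGroup P] [Module A P] (r : P →ₗ[A] N)
    (z : A' ⊗[A] (N →ₗ[A] M)) :
    homComp P M ((LinearMap.lcomp A M r).baseChange A' z) = homComp (A := A) (A' := A') N M z ∘ₗ r.baseChange A' := by
  induction z using TensorProduct.induction_on with
  | zero => simp
  | tmul a g =>
    rw [LinearMap.baseChange_tmul, homComp_tmul, homComp_tmul, LinearMap.smul_comp, ← LinearMap.baseChange_comp]
    rfl
  | add x y hx hy => rw [map_add, map_add, map_add, hx, hy, LinearMap.add_comp]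

section Free

variable (r : ℕ)

/-- `m ↦ (x ↦ x j • m)`. -/
noncomputable def coordMap (j : Fin r) : M →ₗ[A] ((Fin r → A) →ₗ[A] M) :=
  (LinearMap.smulRightₗ (LinearMap.proj j : (Fin r → A) →ₗ[A] A))

/-- The inverse of the comparison map for free sources. -/
noncomputable def homCompInv (f : A' ⊗[A] (Fin r → A) →ₗ[A'] A' ⊗[A] M) : A' ⊗[A] ((Fin r → A) →ₗ[A] M) :=
  ∑ j, (coordMap (M := M) r j).baseChange A' (f (1 ⊗ₜ Pi.single j 1))

theorem sum_coordMap (g : (Fin r → A) →ₗ[A] M) : ∑ j, coordMap r j (g (Pi.single j 1)) = g := by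
  refine LinearMap.pi_ext fun i x => ?_
  simp only [LinearMap.sum_apply, coordMap, LinearMap.smulRightₗ_apply, LinearMap.smulRight_apply,
    LinearMap.proj_apply]
  rw [Finset.sum_eq_single i (fun b _ hb => by rw [Pi.single_eq_of_ne hb, zero_smul]) (by simp),
    Pi.single_eq_same, ← map_smul, ← Pi.single_smul', smul_eq_mul, mul_one]

theorem homCompInv_homComp (z : A' ⊗[A] ((Fin r → A) →ₗ[A] M)) :
    homCompInv r (homComp (Fin r → A) M z) = z := by
  induction z using TensorProduct.induction_on with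
  | zero => simp [homCompInv]
  | tmul a g =>
    simp only [homCompInv, homComp_tmul, LinearMap.smul_apply, LinearMap.baseChange_tmul, smul_tmul', smul_eq_mul,
      mul_one]
    rw [← tmul_sum, sum_coordMap]
  | add x y hx hy =>
    simp only [homCompInv, map_add, LinearMap.add_apply, Finset.sum_add_distrib] at hx hy ⊢
    rw [hx, hy]

theorem homComp_homCompInv (f : A' ⊗[A] (Fin r → A) →ₗ[A'] A' ⊗[A] M) :
    homComp (Fin r → A) M (homCompInv r f) = f := by
  refine TensorProduct.AlgebraTensorModule.ext fun a x => ?_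
  have key : ∀ (y : A' ⊗[A] M) (j : Fin r) (v : Fin r → A),
      homComp (Fin r → A) M ((coordMap (M := M) r j).baseChange A' y) (1 ⊗ₜ v) = v j • y := by
    intro y j v
    induction y using TensorProduct.induction_on with
    | zero => simp
    | tmul b m =>
      rw [LinearMap.baseChange_tmul, homComp_tmul, LinearMap.smul_apply, LinearMap.baseChange_tmul, smul_tmul',
        smul_eq_mul, mul_one]
      rw [show coordMap r j m v = v j • m from rfl, tmul_smul]
    | add p q hp hq => rw [map_add, map_add, LinearMap.add_apply, hp, hq, smul_add]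
  suffices h : homComp (Fin r → A) M (homCompInv r f) (1 ⊗ₜ x) = f (1 ⊗ₜ x) by
    have e : a ⊗ₜ[A] x = a • ((1 : A') ⊗ₜ[A] x) := by rw [smul_tmul', smul_eq_mul, mul_one]
    rw [e, map_smul, map_smul, h]
  simp only [homCompInv, map_sum, LinearMap.sum_apply, key]
  have hx : x = ∑ j, x j • (Pi.single j 1 : Fin r → A) := pi_eq_sum_univ' x
  conv_rhs => rw [hx, tmul_sum, map_sum]
  refine Finset.sum_congr rfl fun j _ => ?_
  rw [tmul_smul, LinearMap.map_smul_of_tower]

end Free

/-- Flat base change for homomorphisms out of a finitely presented module. -/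
theorem homComp_surjective [Module.Flat A A'] [Module.FinitePresentation A N] :
    Function.Surjective (homComp (A := A) (A' := A') N M) := by
  obtain ⟨r, s, π, ρ, hπ, hπρ⟩ := Module.FinitePresentation.exists_fin' A N
  have hρ : LinearMap.range ρ = LinearMap.ker π := (LinearMap.exact_iff.1 hπρ).symm
  intro f
  let z := homCompInv r (f ∘ₗ π.baseChange A')
  have h0 : (LinearMap.lcomp A M ρ).baseChange A' z = 0 := by
    rw [← homCompInv_homComp s ((LinearMap.lcomp A M ρ).baseChange A' z), homComp_comp,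
      show homComp (Fin r → A) M z = f ∘ₗ π.baseChange A' from homComp_homCompInv r _, LinearMap.comp_assoc,
      ← LinearMap.baseChange_comp]
    have : π ∘ₗ ρ = 0 := LinearMap.range_le_ker_iff.1 hρ.le
    simp [this, homCompInv]
  have hex : Function.Exact (LinearMap.lcomp A M π) (LinearMap.lcomp A M ρ) := by
    intro g
    constructor
    · intro hg
      have hle : LinearMap.ker π ≤ LinearMap.ker g := by
        rw [← hρ]; exact LinearMap.range_le_ker_iff.2 hg
      refine ⟨(Submodule.liftQ _ g hle).comp (LinearMap.quotKerEquivOfSurjective π hπ).symm.toLinearMap,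
        LinearMap.ext fun x => ?_⟩
      have hx : (LinearMap.quotKerEquivOfSurjective π hπ).symm (π x) = Submodule.Quotient.mk x := by
        rw [LinearEquiv.symm_apply_eq]; rfl
      show (Submodule.liftQ _ g hle) ((LinearMap.quotKerEquivOfSurjective π hπ).symm (π x)) = g x
      rw [hx, Submodule.liftQ_apply]
    · rintro ⟨h, rfl⟩
      refine LinearMap.ext fun x => ?_
      have : π (ρ x) = 0 := LinearMap.mem_ker.1 (hρ.le ⟨x, rfl⟩)
      simp [this]
  obtain ⟨w, hw⟩ := ((Module.Flat.lTensor_exact A' hex) z).1 h0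
  refine ⟨w, ?_⟩
  have hsurj : Function.Surjective (π.baseChange A') := LinearMap.lTensor_surjective A' hπ
  refine LinearMap.ext fun y => ?_
  obtain ⟨x, rfl⟩ := hsurj y
  rw [← LinearMap.comp_apply, ← homComp_comp, show (LinearMap.lcomp A M π).baseChange A' w = z from hw]
  exact LinearMap.congr_fun (homComp_homCompInv r _) x

section Pair

variable (J : Ideal A)

variable (hq : ∀ n : ℕ, Function.Surjective (fun a : A => Ideal.Quotient.mk ((J ^ n).map (algebraMap A A')) (algebraMap A A' a)))

include hq in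
/-- Every element of a base change is congruent to an element of the module. -/
theorem exists_congr (H : Type u) [AddCommGroup H] [Module A H] (n : ℕ) (z : A' ⊗[A] H) :
    ∃ h : H, z - 1 ⊗ₜ h ∈ ((J ^ n).map (algebraMap A A')) • (⊤ : Submodule A' (A' ⊗[A] H)) := by
  induction z using TensorProduct.induction_on with
  | zero => exact ⟨0, by simp⟩
  | tmul a h =>
    obtain ⟨a₀, ha₀⟩ := hq n (Ideal.Quotient.mk _ a)
    have hj : a - algebraMap A A' a₀ ∈ (J ^ n).map (algebraMap A A') := (Ideal.Quotient.mk_eq_mk_iff_sub_mem _ _).1 ha₀.symm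
    refine ⟨a₀ • h, ?_⟩
    have e : a ⊗ₜ[A] h - 1 ⊗ₜ[A] (a₀ • h) = (a - algebraMap A A' a₀) • ((1 : A') ⊗ₜ[A] h) := by
      rw [smul_tmul', smul_eq_mul, mul_one, sub_tmul, ← smul_tmul, Algebra.smul_def, mul_one]
    rw [e]
    exact Submodule.smul_mem_smul hj Submodule.mem_top
  | add x y hx hy =>
    obtain ⟨h₁, h₁'⟩ := hx
    obtain ⟨h₂, h₂'⟩ := hy
    refine ⟨h₁ + h₂, ?_⟩
    rw [tmul_add, add_sub_add_comm]
    exact add_mem h₁' h₂'

include hq in
/-- Approximation of a map whose cokernel is supported on `V(J)`. -/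
theorem exists_approx [IsNoetherianRing A'] [Module.Flat A A'] [Module.FinitePresentation A N] [Module.Finite A M]
    (hJ' : J.map (algebraMap A A') ≤ (⊥ : Ideal A').jacobson)
    (f : A' ⊗[A] N →ₗ[A'] A' ⊗[A] M)
    (hf : ∀ p ∈ Module.support A' ((A' ⊗[A] M) ⧸ LinearMap.range f), J.map (algebraMap A A') ≤ p.asIdeal) :
    ∃ h : N →ₗ[A] M, LinearMap.range f ≤ LinearMap.range (h.baseChange A') := by
  let J' := J.map (algebraMap A A')
  let P := LinearMap.range f
  have hrad : J' ≤ (Module.annihilator A' ((A' ⊗[A] M) ⧸ P)).radical := by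
    rw [Ideal.radical_eq_sInf]
    refine le_sInf fun p hp => ?_
    haveI := hp.2
    exact hf ⟨p, hp.2⟩ (by rw [Module.support_eq_zeroLocus]; exact hp.1)
  obtain ⟨k, hk⟩ := Ideal.exists_pow_le_of_le_radical_of_fg hrad (IsNoetherian.noetherian _)
  have hkP : J' ^ k • (⊤ : Submodule A' (A' ⊗[A] M)) ≤ P := Submodule.smul_le.2 fun a ha m _ => by
    rw [← Submodule.Quotient.mk_eq_zero P, Submodule.Quotient.mk_smul]
    exact Module.mem_annihilator.1 (hk ha) _
  obtain ⟨z, hz⟩ := homComp_surjective (A := A) (A' := A') f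
  obtain ⟨h, hh⟩ := exists_congr J hq (N →ₗ[A] M) (k + 1) z
  refine ⟨h, ?_⟩
  let Q := LinearMap.range (h.baseChange A')
  have hdiff : ∀ x, f x - h.baseChange A' x ∈ J' ^ (k + 1) • (⊤ : Submodule A' (A' ⊗[A] M)) := by
    intro x
    let ev : (A' ⊗[A] (N →ₗ[A] M)) →ₗ[A'] A' ⊗[A] M := LinearMap.applyₗ x ∘ₗ homComp N M
    have e : f x - h.baseChange A' x = ev (z - 1 ⊗ₜ h) := by
      simp only [ev, map_sub, LinearMap.comp_apply, LinearMap.applyₗ_apply_apply, hz, homComp_tmul, one_smul]
    rw [e, ← Ideal.map_pow]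
    refine Submodule.smul_mono le_rfl (le_top : Submodule.map ev ⊤ ≤ ⊤) ?_
    rw [← Submodule.map_smul'']
    exact ⟨_, hh, rfl⟩
  have hP : P ≤ Q ⊔ J' ^ (k + 1) • (⊤ : Submodule A' (A' ⊗[A] M)) := by
    rintro _ ⟨x, rfl⟩
    rw [← sub_add_cancel (f x) (h.baseChange A' x), add_comm (f x - h.baseChange A' x)]
    exact Submodule.add_mem_sup ⟨x, rfl⟩ (hdiff x)
  have hL : J' ^ k • (⊤ : Submodule A' (A' ⊗[A] M)) ≤ Q := by
    refine Submodule.le_of_le_smul_of_le_jacobson_bot (I := J') (IsNoetherian.noetherian _) hJ' ?_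
    refine (hkP.trans hP).trans (sup_le_sup_left ?_ _)
    rw [pow_succ', Submodule.mul_smul]
  refine hP.trans (sup_le le_rfl (le_trans ?_ hL))
  exact Submodule.smul_mono_left (Ideal.pow_le_pow_right (Nat.le_succ k))

end Pair

/-- `A → A'` is faithfully flat. -/
theorem faithfullyFlat_of_pair [IsNoetherianRing A] [IsNoetherianRing A'] (J : Ideal A)
    (hJ : J ≤ (⊥ : Ideal A).jacobson) (hJ' : J.map (algebraMap A A') ≤ (⊥ : Ideal A').jacobson)
    (hq : ∀ n : ℕ, Function.Bijective (Ideal.quotientMap ((J ^ n).map (algebraMap A A')) (algebraMap A A') Ideal.le_comap_map)) :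
    Module.FaithfullyFlat A A' := by
  have he : ∀ n : ℕ, Nonempty ((A ⧸ J ^ n) ⊗[A] A' ≃ₗ[A ⧸ J ^ n] (A ⧸ J ^ n)) := fun n => by
    let q : (A ⧸ J ^ n) →ₗ[A] (A' ⧸ (J ^ n).map (algebraMap A A')) :=
      { toFun := Ideal.quotientMap _ (algebraMap A A') Ideal.le_comap_map
        map_add' := map_add _
        map_smul' := fun a x => by
          obtain ⟨x, rfl⟩ := Ideal.Quotient.mk_surjective x
          show Ideal.Quotient.mk _ (algebraMap A A' (a * x)) = a • Ideal.Quotient.mk _ (algebraMap A A' x)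
          rw [map_mul, ← Algebra.smul_def]
          rfl }
    let e₂ := LinearEquiv.ofBijective q (hq n)
    let e₁ : (A ⧸ J ^ n) ⊗[A] A' ≃ₗ[A] A' ⧸ ((J ^ n) • (⊤ : Submodule A A')) :=
      TensorProduct.quotTensorEquivQuotSMul A' (J ^ n)
    let e₃ : (A' ⧸ ((J ^ n) • (⊤ : Submodule A A'))) ≃ₗ[A] (A' ⧸ (J ^ n).map (algebraMap A A')) :=
      Submodule.quotEquivOfEq _ (((J ^ n).map (algebraMap A A')).restrictScalars A)
        (Ideal.smul_top_eq_map (J ^ n)) ≪≫ₗ (Submodule.Quotient.restrictScalarsEquiv A _)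
    exact ⟨(e₁ ≪≫ₗ e₃ ≪≫ₗ e₂.symm).extendScalarsOfSurjective Ideal.Quotient.mk_surjective⟩
  haveI : Module.Flat A A' := Groth.Agent.FlatH4.flat_of_forall_flat_quotient_pow (R := A) (S := A') (M := A') J hJ'
    fun n _ => Module.Flat.of_linearEquiv (he n).some
  refine ⟨fun m hm h => ?_⟩
  have hJm : J ≤ m := hJ.trans (sInf_le ⟨bot_le, hm⟩)
  rw [Ideal.smul_top_eq_map, Submodule.restrictScalars_eq_top_iff] at h
  have h1 : (1 : A') ∈ m.map (algebraMap A A') := h ▸ Submodule.mem_top
  -- push to the quotient by `J`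
  have hb := hq 1
  rw [pow_one] at hb
  let e := RingEquiv.ofBijective _ hb
  have h2 : (1 : A ⧸ J) ∈ m.map (Ideal.Quotient.mk J) := by
    have h3 := Ideal.mem_map_of_mem (e.symm.toRingHom.comp (Ideal.Quotient.mk (J.map (algebraMap A A')))) h1
    rw [map_one, Ideal.map_map] at h3
    convert h3 using 2
    refine RingHom.ext fun a => ?_
    simp [e, RingEquiv.eq_symm_apply]
  obtain ⟨a, ha, ha1⟩ := (Ideal.mem_map_iff_of_surjective _ Ideal.Quotient.mk_surjective).1 h2
  have h4 : a - 1 ∈ m := hJm ((Ideal.Quotient.mk_eq_mk_iff_sub_mem _ _).1 (ha1.trans (map_one _).symm))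
  exact hm.ne_top ((Ideal.eq_top_iff_one _).2 (by simpa using m.sub_mem ha h4))

end Groth.Agent.PairIso
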